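import Mathlib

/-!
# The number of fixed vectors of a matrix over a finite field (helper491, project S4880)

* `fxN A` : the number of vectors fixed by `A`; invariant under conjugation, field automorphisms, transposition,
  inversion, reindexing; multiplicative on blocks;
* `exists_free` : a matrix of order `p` and degree `d = ord_p(q)` without fixed vectors.
-/

set_option autoImplicit false

namespace Cfsg.Agent.H491.One

open Matrix

section

variable {F : Type*} [Field F] [Fintype F] {ι κ : Type*} [Fintype ι] [DecidableEq ι] [Fintype κ] [DecidableEq κ]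

/-- the number of fixed vectors -/
noncomputable def fxN (A : Matrix ι ι F) : ℕ := Nat.card {v : ι → F // A *ᵥ v = v}

omit [Fintype F] in
theorem fxN_conj (P : GL ι F) (A : Matrix ι ι F) :
    fxN ((P : Matrix ι ι F) * A * ((P⁻¹ : GL ι F) : Matrix ι ι F)) = fxN A := by
  have h1 : ((P⁻¹ : GL ι F) : Matrix ι ι F) * (P : Matrix ι ι F) = 1 := by
    rw [← Units.val_mul, inv_mul_cancel, Units.val_one]
  have h2 : (P : Matrix ι ι F) * ((P⁻¹ : GL ι F) : Matrix ι ι F) = 1 := by
    rw [← Units.val_mul, mul_inv_cancel, Units.val_one]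
  refine Nat.card_congr ⟨fun v => ⟨((P⁻¹ : GL ι F) : Matrix ι ι F) *ᵥ v.1, ?_⟩, fun v => ⟨(P : Matrix ι ι F) *ᵥ v.1, ?_⟩,
    fun v => Subtype.ext ?_, fun v => Subtype.ext ?_⟩
  · have h3 := congrArg (fun w => ((P⁻¹ : GL ι F) : Matrix ι ι F) *ᵥ w) v.2
    simp only [mulVec_mulVec] at h3
    rw [mulVec_mulVec, ← h3, ← mul_assoc, ← mul_assoc, h1, one_mul]
  · rw [mulVec_mulVec, mul_assoc, h1, mul_one, ← mulVec_mulVec, v.2]
  · show (P : Matrix ι ι F) *ᵥ (((P⁻¹ : GL ι F) : Matrix ι ι F) *ᵥ v.1) = v.1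
    rw [mulVec_mulVec, h2, one_mulVec]
  · show ((P⁻¹ : GL ι F) : Matrix ι ι F) *ᵥ ((P : Matrix ι ι F) *ᵥ v.1) = v.1
    rw [mulVec_mulVec, h1, one_mulVec]

omit [Fintype F] [DecidableEq ι] in
theorem fxN_map (σ : F ≃+* F) (A : Matrix ι ι F) : fxN (A.map σ) = fxN A := by
  have key : ∀ (τ : F ≃+* F) (B : Matrix ι ι F) (v : ι → F), B.map τ *ᵥ (τ ∘ v) = τ ∘ (B *ᵥ v) := by
    intro τ B v
    funext i
    exact (RingHom.map_mulVec (τ : F →+* F) B v i).symm
  refine Nat.card_congr ⟨fun v => ⟨σ.symm ∘ v.1, ?_⟩, fun v => ⟨σ ∘ v.1, ?_⟩, fun v => Subtype.ext ?_,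
    fun v => Subtype.ext ?_⟩
  · have h1 := key σ.symm (A.map σ) v.1
    rw [v.2] at h1
    have h2 : (A.map σ).map σ.symm = A := by
      ext i j
      simp
    rwa [h2] at h1
  · rw [key, v.2]
  · funext i
    simp
  · funext i
    simp

theorem fxN_eq_pow (A : Matrix ι ι F) : fxN A = Fintype.card F ^ (Fintype.card ι - (A - 1).rank) := by
  have h1 : fxN A = Nat.card (LinearMap.ker (A - 1).mulVecLin) := by
    refine Nat.card_congr (Equiv.subtypeEquivRight fun v => ?_)
    rw [LinearMap.mem_ker, mulVecLin_apply, sub_mulVec, one_mulVec, sub_eq_zero]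
  have h2 := LinearMap.finrank_range_add_finrank_ker (A - 1).mulVecLin
  rw [Module.finrank_fintype_fun_eq_card] at h2
  have h3 : Module.finrank F (LinearMap.ker (A - 1).mulVecLin) = Fintype.card ι - (A - 1).rank := by
    unfold Matrix.rank
    omega
  rw [h1, Module.natCard_eq_pow_finrank (K := F), h3, Nat.card_eq_fintype_card]

theorem fxN_transpose (A : Matrix ι ι F) : fxN Aᵀ = fxN A := by
  rw [fxN_eq_pow, fxN_eq_pow]
  have h1 : Aᵀ - 1 = (A - 1)ᵀ := by rw [transpose_sub, transpose_one]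
  rw [h1, rank_transpose]

omit [Fintype F] in
theorem fxN_inv (A B : Matrix ι ι F) (h : A * B = 1) : fxN A = fxN B := by
  have h' : B * A = 1 := mul_eq_one_comm.1 h
  refine Nat.card_congr (Equiv.subtypeEquivRight fun v => ?_)
  constructor
  · intro hv
    conv_lhs => rw [← hv]
    rw [mulVec_mulVec, h', one_mulVec]
  · intro hv
    conv_lhs => rw [← hv]
    rw [mulVec_mulVec, h, one_mulVec]

theorem fxN_one : fxN (1 : Matrix ι ι F) = Fintype.card F ^ Fintype.card ι := by
  have h1 : ∀ v : ι → F, (1 : Matrix ι ι F) *ᵥ v = v := one_mulVec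
  unfold fxN
  rw [Nat.card_congr (Equiv.subtypeUnivEquiv h1), Nat.card_fun, Nat.card_eq_fintype_card, Nat.card_eq_fintype_card]

omit [Fintype F] [DecidableEq ι] [DecidableEq κ] in
theorem fxN_reindex (e : ι ≃ κ) (A : Matrix ι ι F) : fxN (reindex e e A) = fxN A := by
  have key : ∀ v : κ → F, reindex e e A *ᵥ v = (A *ᵥ (v ∘ e)) ∘ e.symm := by
    intro v
    funext i
    simp only [mulVec, dotProduct, reindex_apply, submatrix_apply, Function.comp_apply]
    exact (Fintype.sum_equiv e _ _ fun j => by simp).symm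
  refine Nat.card_congr ⟨fun v => ⟨v.1 ∘ e, ?_⟩, fun v => ⟨v.1 ∘ e.symm, ?_⟩, fun v => Subtype.ext ?_,
    fun v => Subtype.ext ?_⟩
  · have h1 := v.2
    rw [key] at h1
    funext i
    have h2 := congrFun h1 (e i)
    simpa using h2
  · rw [key]
    have h1 : (v.1 ∘ e.symm) ∘ e = v.1 := by
      funext i
      simp
    rw [h1, v.2]
  · funext i
    simp
  · funext i
    simp

omit [Fintype F] [DecidableEq ι] [DecidableEq κ] in
theorem fxN_fromBlocks (A : Matrix ι ι F) (B : Matrix κ κ F) : fxN (fromBlocks A 0 0 B) = fxN A * fxN B := by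
  unfold fxN
  rw [← Nat.card_prod]
  refine Nat.card_congr ⟨fun v => (⟨v.1 ∘ Sum.inl, ?_⟩, ⟨v.1 ∘ Sum.inr, ?_⟩), fun v => ⟨Sum.elim v.1.1 v.2.1, ?_⟩,
    fun v => Subtype.ext ?_, fun v => Prod.ext (Subtype.ext ?_) (Subtype.ext ?_)⟩
  · have h1 := v.2
    rw [fromBlocks_mulVec] at h1
    have h2 := congrArg (fun w => w ∘ Sum.inl) h1
    simpa using h2
  · have h1 := v.2
    rw [fromBlocks_mulVec] at h1
    have h2 := congrArg (fun w => w ∘ Sum.inr) h1
    simpa using h2
  · rw [fromBlocks_mulVec]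
    simp only [Sum.elim_comp_inl, Sum.elim_comp_inr, zero_mulVec, add_zero, zero_add, v.1.2, v.2.2]
  · exact Sum.elim_comp_inl_inr v.1
  · rfl
  · rfl

omit [Fintype F] in
/-- a diagonal matrix without entries `1` -/
theorem fxN_diagonal (a : ι → F) (h : ∀ i, a i ≠ 1) : fxN (diagonal a) = 1 := by
  unfold fxN
  have h1 : ∀ v : {v : ι → F // diagonal a *ᵥ v = v}, v.1 = 0 := by
    intro v
    funext i
    have h2 := congrFun v.2 i
    rw [mulVec_diagonal] at h2
    by_contra h3
    apply h i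
    have h4 : (a i - 1) * v.1 i = 0 := by linear_combination h2
    exact sub_eq_zero.1 ((mul_eq_zero.1 h4).resolve_right h3)
  rw [Nat.card_eq_one_iff_unique]
  exact ⟨⟨fun v w => Subtype.ext (by rw [h1 v, h1 w])⟩, ⟨⟨0, mulVec_zero _⟩⟩⟩

/-- a matrix of order `p` and degree `d` without fixed vectors, `d` the order of `q` modulo `p` -/
theorem exists_free {p d : ℕ} [hp : Fact p.Prime] (hd : 0 < d) (hiff : ∀ j, p ∣ Fintype.card F ^ j - 1 ↔ d ∣ j) :
    ∃ A : Matrix (Fin d) (Fin d) F, A ^ p = 1 ∧ fxN A = 1 := by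
  have hq : 1 < Fintype.card F := Fintype.one_lt_card
  have hpd : p ∣ Nat.card (GL (Fin d) F) := by
    rw [Matrix.card_GL_field]
    have h1 : p ∣ Fintype.card F ^ d - Fintype.card F ^ 0 := by
      rw [pow_zero]
      exact (hiff d).2 dvd_rfl
    exact h1.trans (Finset.dvd_prod_of_mem (fun i : Fin d => Fintype.card F ^ d - Fintype.card F ^ (i : ℕ))
      (Finset.mem_univ (⟨0, hd⟩ : Fin d)))
  obtain ⟨g, hg⟩ := exists_prime_orderOf_dvd_card' p hpd
  have hgp : g ^ p = 1 := by rw [← hg, pow_orderOf_eq_one]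
  refine ⟨(g : Matrix (Fin d) (Fin d) F), by rw [← Units.val_pow_eq_pow_val, hgp, Units.val_one], ?_⟩
  -- the group generated by `g` acts
  let A := Subgroup.zpowers g
  have hA : IsPGroup p A := IsPGroup.of_card (n := 1) (by rw [Nat.card_zpowers, hg, pow_one])
  let act : MulAction A (Fin d → F) :=
    { smul := fun a v => ((a : GL (Fin d) F) : Matrix (Fin d) (Fin d) F) *ᵥ v
      one_smul := fun v => by
        show ((1 : GL (Fin d) F) : Matrix (Fin d) (Fin d) F) *ᵥ v = v
        rw [Units.val_one, one_mulVec]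
      mul_smul := fun a b v => by
        show (((a : GL (Fin d) F) * b : GL (Fin d) F) : Matrix (Fin d) (Fin d) F) *ᵥ v = _ *ᵥ (_ *ᵥ v)
        rw [Units.val_mul, mulVec_mulVec] }
  have h1 := hA.card_modEq_card_fixedPoints (Fin d → F)
  have h2 : Nat.card (MulAction.fixedPoints A (Fin d → F)) = fxN (g : Matrix (Fin d) (Fin d) F) := by
    refine Nat.card_congr (Equiv.subtypeEquivRight fun v => ?_)
    constructor
    · intro h
      exact h ⟨g, Subgroup.mem_zpowers g⟩
    · rintro h ⟨_, k, rfl⟩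
      show ((g ^ k : GL (Fin d) F) : Matrix (Fin d) (Fin d) F) *ᵥ v = v
      have hst : g ∈ (MulAction.stabilizer (GL (Fin d) F) v) := h
      exact Subgroup.zpow_mem (MulAction.stabilizer (GL (Fin d) F) v) hst k
  rw [h2, fxN_eq_pow, Nat.card_fun, Nat.card_eq_fintype_card, Nat.card_eq_fintype_card, Fintype.card_fin] at h1
  rw [fxN_eq_pow, Fintype.card_fin]
  set r := ((g : Matrix (Fin d) (Fin d) F) - 1).rank with hr
  have hrd : r ≤ d := by
    have := rank_le_card_height ((g : Matrix (Fin d) (Fin d) F) - 1)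
    rwa [Fintype.card_fin] at this
  have hr0 : r ≠ 0 := by
    intro h0
    have h3 : (g : Matrix (Fin d) (Fin d) F) - 1 = 0 := by
      have h5 : LinearMap.range ((g : Matrix (Fin d) (Fin d) F) - 1).mulVecLin = ⊥ := by
        rw [← Submodule.finrank_eq_zero (R := F)]
        exact h0
      rw [LinearMap.range_eq_bot] at h5
      apply Matrix.toLin'.injective
      rw [map_zero]
      exact h5
    have h4 : g = 1 := Units.ext (sub_eq_zero.1 h3)
    rw [h4, orderOf_one] at hg
    exact hp.out.one_lt.ne hg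
  -- `p ∣ q ^ r - 1`
  have h3 : d ∣ r := by
    rw [← hiff]
    have hle : Fintype.card F ^ (d - r) ≤ Fintype.card F ^ d := Nat.pow_le_pow_right hq.le (by omega)
    have h4 := (Nat.modEq_iff_dvd' hle).1 h1.symm
    have h5 : Fintype.card F ^ d - Fintype.card F ^ (d - r) = Fintype.card F ^ (d - r) * (Fintype.card F ^ r - 1) := by
      rw [Nat.mul_sub_one, ← pow_add, Nat.sub_add_cancel hrd]
    rw [h5] at h4
    refine (hp.out.dvd_mul.1 h4).resolve_left fun h6 => ?_
    have h7 := hp.out.dvd_of_dvd_pow h6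
    have h8 := (hiff d).2 dvd_rfl
    have h9 : p ∣ Fintype.card F ^ d := dvd_pow h7 hd.ne'
    have h10 : 1 ≤ Fintype.card F ^ d := Nat.one_le_pow _ _ (by omega)
    have h11 := (Nat.dvd_sub h9 h8)
    have h12 : Fintype.card F ^ d - (Fintype.card F ^ d - 1) = 1 := by omega
    rw [h12] at h11
    exact hp.out.one_lt.ne' (Nat.dvd_one.1 h11)
  have h4 : r = d := le_antisymm hrd (Nat.le_of_dvd (Nat.pos_of_ne_zero hr0) h3)
  rw [h4, Nat.sub_self, pow_zero]

end

end Cfsg.Agent.H491.One
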